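import Cfsg.Agent.Lib.F43.M2
import Cfsg.Agent.Lib.Loc3.Gen5

/-! Facts for the centralisers of elements of order 3 (generated, helper24). -/

set_option autoImplicit false
set_option maxRecDepth 1000000
set_option maxHeartbeats 0

namespace Cfsg.Lib.F43

open Cfsg.Lib.Loc3 Cfsg.Lib.Calc Cfsg.Lib.Grp Cfsg.Lib.T2 Cfsg.Lib.T3

/-- a formula -/
def nj_ep_f : Fm := .all 4 40 [(.l 11, .l 15)] (.not (.tt))

theorem nj_ep_ev : nj.eval nj_ep_f = true := by decide +kernel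

theorem nj_ep {G : Type*} [Group G] {γ : ℕ → G} {k : ℕ} {N : List W} (g : Gf nj γ k N)
    (e : tyB nj k N nj_ep_f = true := by decide +kernel) :
    ∀ w ∈ genW γ (nj.ws 4), w * γ 11 = γ 15 * w → ¬ True :=
  g.transfer e nj_ep_ev

/-- a formula -/
def nj_ee_f : Fm := .all 4 40 [(.l 11, .l 11)] (.and (.mem 13 (.l 40)) (.imp (.mem 2 (.mul (.mul (.l 40) (.l 4)) (.inv (.l 40)))) (.or (.one (.mul (.l 40) (.l 40))) (.or (.eq (.mul (.l 40) (.l 40)) (.l 4)) (.eq (.mul (.l 40) (.l 40)) (.inv (.l 4)))))))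

theorem nj_ee_ev : nj.eval nj_ee_f = true := by decide +kernel

theorem nj_ee {G : Type*} [Group G] {γ : ℕ → G} {k : ℕ} {N : List W} (g : Gf nj γ k N)
    (e : tyB nj k N nj_ee_f = true := by decide +kernel) :
    ∀ w ∈ genW γ (nj.ws 4), w * γ 11 = γ 11 * w → w ∈ genW γ (nj.ws 13) ∧ (w * γ 4 * w⁻¹ ∈ genW γ (nj.ws 2) → w * w = 1 ∨ w * w = γ 4 ∨ w * w = (γ 4)⁻¹) :=
  g.transfer e nj_ee_ev

/-- a formula -/
def nj_dl_f : Fm := .all 21 40 [(.mul (.mul (.l 7) (.l 8)) (.l 12), .mul (.mul (.l 7) (.l 8)) (.l 12))] (.and (.mem 19 (.pow (.l 40) 4)) (.eq (.mul (.pow (.l 40) 4) (.mul (.l 7) (.l 8))) (.mul (.mul (.l 7) (.l 8)) (.pow (.l 40) 4))))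

theorem nj_dl_ev : nj.eval nj_dl_f = true := by decide +kernel

theorem nj_dl {G : Type*} [Group G] {γ : ℕ → G} {k : ℕ} {N : List W} (g : Gf nj γ k N)
    (e : tyB nj k N nj_dl_f = true := by decide +kernel) :
    ∀ n ∈ genW γ (nj.ws 21), n * (γ 7 * γ 8 * γ 12) = γ 7 * γ 8 * γ 12 * n → n ^ 4 ∈ genW γ (nj.ws 19) ∧ n ^ 4 * (γ 7 * γ 8) = γ 7 * γ 8 * n ^ 4 :=
  g.transfer e nj_dl_ev

/-- a formula -/
def nj_cab_f : Fm := .all 21 40 [(.l 1, .l 1), (.l 2, .l 2)] (.mem 1 (.pow (.l 40) 4))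

theorem nj_cab_ev : nj.eval nj_cab_f = true := by decide +kernel

theorem nj_cab {G : Type*} [Group G] {γ : ℕ → G} {k : ℕ} {N : List W} (g : Gf nj γ k N)
    (e : tyB nj k N nj_cab_f = true := by decide +kernel) :
    ∀ n ∈ genW γ (nj.ws 21), n * γ 1 = γ 1 * n → n * γ 2 = γ 2 * n → n ^ 4 ∈ genW γ (nj.ws 1) :=
  g.transfer e nj_cab_ev

/-- a formula -/
def nj_r_f : Fm := .all 1 40 [] (.imp (.eq (.mul (.mul (.l 12) (.l 40)) (.inv (.l 12))) (.inv (.l 40))) (.mem 20 (.l 40)))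

theorem nj_r_ev : nj.eval nj_r_f = true := by decide +kernel

theorem nj_r {G : Type*} [Group G] {γ : ℕ → G} {k : ℕ} {N : List W} (g : Gf nj γ k N)
    (e : tyB nj k N nj_r_f = true := by decide +kernel) :
    ∀ j ∈ genW γ (nj.ws 1), γ 12 * j * (γ 12)⁻¹ = j⁻¹ → j ∈ genW γ (nj.ws 20) :=
  g.transfer e nj_r_ev

/-- words -/
def cl_wz : List (List ℕ) := [[], [7], [8], [10], [4, 7], [8, 7], [10, 7], [13, 7], [13, 10], [4, 4, 7], [13, 4, 7], [13, 8, 7], [13, 10, 7], [7, 13, 7], [10, 13, 7], [12, 13, 7], [7, 13, 10], [8, 13, 10], [12, 13, 10], [13, 4, 4, 7], [7, 13, 4, 7], [10, 13, 8, 7], [7, 13, 10, 7], [8, 13, 10, 7], [12, 13, 10, 7], [10, 7, 13, 7], [12, 10, 13, 7], [4, 7, 13, 10], [8, 7, 13, 10], [12, 7, 13, 10], [7, 13, 4, 4, 7], [4, 7, 13, 4, 7]]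

/-- words -/
def cl_we : List (List ℕ) := [[], [12], [13], [13, 12], [7, 13], [8, 13], [10, 13], [12, 13], [7, 13, 12], [10, 13, 12], [4, 7, 13], [8, 7, 13], [10, 7, 13], [12, 7, 13], [12, 10, 13], [13, 10, 13], [10, 7, 13, 12], [13, 10, 13, 12], [4, 4, 7, 13], [13, 8, 7, 13], [12, 10, 7, 13], [13, 10, 7, 13], [13, 12, 7, 13], [13, 10, 7, 13, 12]]

/-- words -/
def cl_wp : List (List ℕ) := [[], [4], [5], [10], [4, 4], [5, 4], [7, 4], [8, 4], [10, 5], [13, 10], [7, 4, 4], [7, 5, 4], [8, 7, 4], [13, 7, 4], [13, 10, 5], [8, 13, 10], [12, 13, 10], [13, 7, 4, 4], [13, 7, 5, 4], [13, 8, 7, 4], [7, 13, 7, 4], [12, 13, 7, 4], [7, 13, 7, 4, 4], [12, 13, 7, 4, 4]]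

/-- a formula -/
def nj_cl_f : Fm := .all 1 40 [] (.or (.one (.l 40)) (.or (clsF cl_wz (.l 16) (.l 40)) (.or (clsF cl_we (.l 11) (.l 40)) (clsF cl_wp (.l 15) (.l 40)))))

theorem nj_cl_ev : nj.eval nj_cl_f = true := by decide +kernel

theorem nj_cl {G : Type*} [Group G] {γ : ℕ → G} {k : ℕ} {N : List W} (g : Gf nj γ k N)
    (e : tyB nj k N nj_cl_f = true := by decide +kernel) :
    ∀ j ∈ genW γ (nj.ws 1), j = 1 ∨ (clsF cl_wz (.l 16) (.l 40)).holds (fun k => genW γ (nj.ws k)) (upd γ 40 j) ∨ (clsF cl_we (.l 11) (.l 40)).holds (fun k => genW γ (nj.ws k)) (upd γ 40 j) ∨ (clsF cl_wp (.l 15) (.l 40)).holds (fun k => genW γ (nj.ws k)) (upd γ 40 j) :=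
  g.transfer e nj_cl_ev

/-- a formula -/
def nj_S3_f : Fm := .all 2 40 [] (.imp (.one (.pow (.l 40) 3)) (.or (.mem 1 (.l 40)) (.or (.mem 15 (.l 40)) (.or (.mem 15 (.mul (.mul (.mul (.mul (.l 7) (.l 13)) (.l 10)) (.l 40)) (.inv (.mul (.mul (.l 7) (.l 13)) (.l 10))))) (.or (.mem 15 (.mul (.mul (.mul (.mul (.l 7) (.inv (.l 13))) (.l 10)) (.l 40)) (.inv (.mul (.mul (.l 7) (.inv (.l 13))) (.l 10))))) (.or (.mem 15 (.mul (.mul (.mul (.mul (.l 10) (.l 13)) (.l 7)) (.l 40)) (.inv (.mul (.mul (.l 10) (.l 13)) (.l 7))))) (.or (.mem 15 (.mul (.mul (.mul (.mul (.l 10) (.inv (.l 13))) (.l 7)) (.l 40)) (.inv (.mul (.mul (.l 10) (.inv (.l 13))) (.l 7))))) (.or (.mem 15 (.mul (.mul (.mul (.mul (.mul (.l 7) (.l 4)) (.l 13)) (.l 7)) (.l 40)) (.inv (.mul (.mul (.mul (.l 7) (.l 4)) (.l 13)) (.l 7))))) (.mem 15 (.mul (.mul (.mul (.mul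 (.mul (.l 7) (.l 4)) (.inv (.l 13))) (.l 7)) (.l 40)) (.inv (.mul (.mul (.mul (.l 7) (.l 4)) (.inv (.l 13))) (.l 7)))))))))))))

theorem nj_S3_ev : nj.eval nj_S3_f = true := by decide +kernel

theorem nj_S3 {G : Type*} [Group G] {γ : ℕ → G} {k : ℕ} {N : List W} (g : Gf nj γ k N)
    (e : tyB nj k N nj_S3_f = true := by decide +kernel) :
    ∀ g ∈ genW γ (nj.ws 2), g ^ 3 = 1 → g ∈ genW γ (nj.ws 1) ∨ g ∈ genW γ (nj.ws 15) ∨ γ 7 * γ 13 * γ 10 * g * (γ 7 * γ 13 * γ 10)⁻¹ ∈ genW γ (nj.ws 15) ∨ γ 7 * (γ 13)⁻¹ * γ 10 * g * (γ 7 * (γ 13)⁻¹ * γ 10)⁻¹ ∈ genW γ (nj.ws 15) ∨ γ 10 * γ 13 * γ 7 * g * (γ 10 * γ 13 * γ 7)⁻¹ ∈ genW γ (nj.ws 15) ∨ γ 10 * (γ 13)⁻¹ * γ 7 * g * (γ 10 * (γ 13)⁻¹ * γ 7)⁻¹ ∈ genW γ (nj.ws 15) ∨ γ 7 * γ 4 * γ 13 * γ 7 * g * (γ 7 * γ 4 * γ 13 * γ 7)⁻¹ ∈ genW γ (nj.ws 15) ∨ γ 7 * γ 4 * (γ 13)⁻¹ * γ 7 * g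 * (γ 7 * γ 4 * (γ 13)⁻¹ * γ 7)⁻¹ ∈ genW γ (nj.ws 15) :=
  g.transfer e nj_S3_ev

/-- a formula -/
def gu_cc_f : Fm := .all 0 40 [(.l 3, .l 3)] (.or (.mem 6 (.l 40)) (.mem 6 (.mul (.l 40) (.l 5))))

theorem gu_cc_ev : gu.eval gu_cc_f = true := by decide +kernel

theorem gu_cc {G : Type*} [Group G] {γ : ℕ → G} {k : ℕ} {N : List W} (g : Gf gu γ k N)
    (e : tyB gu k N gu_cc_f = true := by decide +kernel) :
    ∀ y ∈ genW γ (gu.ws 0), y * γ 3 = γ 3 * y → y ∈ genW γ (gu.ws 6) ∨ y * γ 5 ∈ genW γ (gu.ws 6) :=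
  g.transfer e gu_cc_ev

/-- a formula -/
def gu_P_f : Fm := .all 1 40 [] (.ex 3 41 [] (.mem 5 (.mul (.mul (.l 41) (.l 40)) (.inv (.l 41)))))

theorem gu_P_ev : gu.eval gu_P_f = true := by decide +kernel

theorem gu_P {G : Type*} [Group G] {γ : ℕ → G} {k : ℕ} {N : List W} (g : Gf gu γ k N)
    (e : tyB gu k N gu_P_f = true := by decide +kernel) :
    ∀ g ∈ genW γ (gu.ws 1), ∃ k ∈ genW γ (gu.ws 3), k * g * k⁻¹ ∈ genW γ (gu.ws 5) :=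
  g.transfer e gu_P_ev

/-- a formula -/
def gu_ct_f : Fm := .all 4 40 [(.l 5, .l 5)] (.or (.mem 3 (.l 40)) (.or (.mem 3 (.mul (.l 40) (.l 16))) (.mem 3 (.mul (.l 40) (.inv (.l 16))))))

theorem gu_ct_ev : gu.eval gu_ct_f = true := by decide +kernel

theorem gu_ct {G : Type*} [Group G] {γ : ℕ → G} {k : ℕ} {N : List W} (g : Gf gu γ k N)
    (e : tyB gu k N gu_ct_f = true := by decide +kernel) :
    ∀ y ∈ genW γ (gu.ws 4), y * γ 5 = γ 5 * y → y ∈ genW γ (gu.ws 3) ∨ y * γ 16 ∈ genW γ (gu.ws 3) ∨ y * (γ 16)⁻¹ ∈ genW γ (gu.ws 3) :=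
  g.transfer e gu_ct_ev

/-- a formula -/
def sq_we_f : Fm := .all 11 40 [(.l 5, .l 5)] (.imp (.one (.mul (.l 40) (.l 40))) (.imp (.one (.pow (.mul (.l 40) (.mul (.mul (.l 16) (.l 40)) (.inv (.l 16)))) 4)) (.or (.one (.l 40)) (.or (.eq (.l 40) (.l 5)) (.ex 11 41 [(.l 7, .l 40)] (.tt))))))

theorem sq_we_ev : sq.eval sq_we_f = true := by decide +kernel

theorem sq_we {G : Type*} [Group G] {γ : ℕ → G} {k : ℕ} {N : List W} (g : Gf sq γ k N)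
    (e : tyB sq k N sq_we_f = true := by decide +kernel) :
    ∀ y ∈ genW γ (sq.ws 11), y * γ 5 = γ 5 * y → y * y = 1 → (y * (γ 16 * y * (γ 16)⁻¹)) ^ 4 = 1 → y = 1 ∨ y = γ 5 ∨ (∃ k ∈ genW γ (sq.ws 11), k * γ 7 = y * k ∧ True) :=
  g.transfer e sq_we_ev

/-- a formula -/
def sq_c6_f : Fm := .all 11 40 [(.l 3, .l 3)] (.and (.mem 14 (.mul (.mul (.l 40) (.l 1)) (.inv (.l 40)))) (.mem 14 (.mul (.mul (.l 40) (.l 2)) (.inv (.l 40)))))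

theorem sq_c6_ev : sq.eval sq_c6_f = true := by decide +kernel

theorem sq_c6 {G : Type*} [Group G] {γ : ℕ → G} {k : ℕ} {N : List W} (g : Gf sq γ k N)
    (e : tyB sq k N sq_c6_f = true := by decide +kernel) :
    ∀ y ∈ genW γ (sq.ws 11), y * γ 3 = γ 3 * y → y * γ 1 * y⁻¹ ∈ genW γ (sq.ws 14) ∧ y * γ 2 * y⁻¹ ∈ genW γ (sq.ws 14) :=
  g.transfer e sq_c6_ev

/-- a formula -/
def sq_ca_f : Fm := .all 14 40 [] (.or (.one (.l 40)) (.all 0 41 [(.l 40, .l 40), (.mul (.l 7) (.l 8), .mul (.l 7) (.l 8))] (.mem 9 (.l 41))))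

theorem sq_ca_ev : sq.eval sq_ca_f = true := by decide +kernel

theorem sq_ca {G : Type*} [Group G] {γ : ℕ → G} {k : ℕ} {N : List W} (g : Gf sq γ k N)
    (e : tyB sq k N sq_ca_f = true := by decide +kernel) :
    ∀ j ∈ genW γ (sq.ws 14), j = 1 ∨ (∀ y ∈ genW γ (sq.ws 0), y * j = j * y → y * (γ 7 * γ 8) = γ 7 * γ 8 * y → y ∈ genW γ (sq.ws 9)) :=
  g.transfer e sq_ca_ev

/-- a formula -/
def sq_B_f : Fm := .and (.all 8 40 [(.l 2, .l 2)] (.mem 6 (.l 40))) (.all 8 40 [(.l 1, .l 1)] (.mem 7 (.l 40)))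

theorem sq_B_ev : sq.eval sq_B_f = true := by decide +kernel

theorem sq_B {G : Type*} [Group G] {γ : ℕ → G} {k : ℕ} {N : List W} (g : Gf sq γ k N)
    (e : tyB sq k N sq_B_f = true := by decide +kernel) :
    (∀ y ∈ genW γ (sq.ws 8), y * γ 2 = γ 2 * y → y ∈ genW γ (sq.ws 6)) ∧ (∀ y ∈ genW γ (sq.ws 8), y * γ 1 = γ 1 * y → y ∈ genW γ (sq.ws 7)) :=
  g.transfer e sq_B_ev

/-- a formula -/
def sq_cA_f : Fm := .all 9 40 [(.mul (.l 7) (.l 8), .mul (.l 7) (.l 8)), (.mul (.mul (.mul (.inv (.l 4)) (.l 7)) (.l 9)) (.l 4), .mul (.mul (.mul (.inv (.l 4)) (.l 7)) (.l 9)) (.l 4)), (.mul (.mul (.mul (.mul (.mul (.l 1) (.inv (.l 4))) (.l 7)) (.l 9)) (.l 4)) (.inv (.l 1)), .mul (.mul (.mul (.mul (.mul (.l 1) (.inv (.l 4))) (.l 7)) (.l 9)) (.l 4)) (.inv (.l 1))), (.mul (.l 7) (.l 8), .mul (.l 7) (.l 8)), (.mul (.mul (.mul (.l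 4) (.l 7)) (.l 9)) (.inv (.l 4)), .mul (.mul (.mul (.l 4) (.l 7)) (.l 9)) (.inv (.l 4))), (.mul (.mul (.mul (.mul (.mul (.l 2) (.l 4)) (.l 7)) (.l 9)) (.inv (.l 4))) (.inv (.l 2)), .mul (.mul (.mul (.mul (.mul (.l 2) (.l 4)) (.l 7)) (.l 9)) (.inv (.l 4))) (.inv (.l 2)))] (.mem 8 (.l 40))

theorem sq_cA_ev : sq.eval sq_cA_f = true := by decide +kernel

theorem sq_cA {G : Type*} [Group G] {γ : ℕ → G} {k : ℕ} {N : List W} (g : Gf sq γ k N)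
    (e : tyB sq k N sq_cA_f = true := by decide +kernel) :
    ∀ y ∈ genW γ (sq.ws 9), y * (γ 7 * γ 8) = γ 7 * γ 8 * y → y * ((γ 4)⁻¹ * γ 7 * γ 9 * γ 4) = (γ 4)⁻¹ * γ 7 * γ 9 * γ 4 * y → y * (γ 1 * (γ 4)⁻¹ * γ 7 * γ 9 * γ 4 * (γ 1)⁻¹) = γ 1 * (γ 4)⁻¹ * γ 7 * γ 9 * γ 4 * (γ 1)⁻¹ * y → y * (γ 7 * γ 8) = γ 7 * γ 8 * y → y * (γ 4 * γ 7 * γ 9 * (γ 4)⁻¹) = γ 4 * γ 7 * γ 9 * (γ 4)⁻¹ * y → y * (γ 2 * γ 4 * γ 7 * γ 9 * (γ 4)⁻¹ * (γ 2)⁻¹) = γ 2 * γ 4 * γ 7 * γ 9 * (γ 4)⁻¹ * (γ 2)⁻¹ * y → y ∈ genW γ (sq.ws 8) :=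
  g.transfer e sq_cA_ev

/-- a formula -/
def sq_q_f : Fm := .all 1 40 [] (.and (.imp (.eq (.mul (.mul (.l 8) (.mul (.mul (.l 40) (.l 18)) (.inv (.l 40)))) (.inv (.l 8))) (.mul (.mul (.l 40) (.mul (.mul (.l 8) (.l 18)) (.inv (.l 8)))) (.inv (.l 40)))) (.eq (.mul (.l 40) (.l 17)) (.mul (.l 17) (.l 40)))) (.and (.imp (.eq (.mul (.l 40) (.l 17)) (.mul (.l 17) (.l 40))) (.imp (.eq (.mul (.l 40) (.l 18)) (.mul (.l 18) (.l 40))) (.mem 12 (.l 40)))) (.and (.imp (.eq (.mul (.mul (.mul (.mul (.l 40) (.inv (.l 3))) (.inv (.l 40))) (.l 3)) (.l 17)) (.mul (.l 17) (.mul (.mul (.mul (.l 40) (.inv (.l 3))) (.inv (.l 40))) (.l 3)))) (.imp (.eq (.mul (.mul (.mul (.mul (.l 40) (.inv (.l 3))) (.inv (.l 40))) (.l 3)) (.l 18)) (.mul (.l 18) (.mul (.mul (.mul (.l 40) (.inv (.l 3))) (.inv (.l 40))) (.l 3)))) (.mem 12 (.l 40)))) (.and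 (.or (.eq (.mul (.l 40) (.l 18)) (.mul (.l 18) (.l 40))) (.eq (.mul (.mul (.l 40) (.l 18)) (.inv (.l 40))) (.inv (.l 18)))) (.mem 12 (.mul (.l 40) (.l 40)))))))

theorem sq_q_ev : sq.eval sq_q_f = true := by decide +kernel

theorem sq_q {G : Type*} [Group G] {γ : ℕ → G} {k : ℕ} {N : List W} (g : Gf sq γ k N)
    (e : tyB sq k N sq_q_f = true := by decide +kernel) :
    ∀ y ∈ genW γ (sq.ws 1), (γ 8 * (y * γ 18 * y⁻¹) * (γ 8)⁻¹ = y * (γ 8 * γ 18 * (γ 8)⁻¹) * y⁻¹ → y * γ 17 = γ 17 * y) ∧ (y * γ 17 = γ 17 * y → y * γ 18 = γ 18 * y → y ∈ genW γ (sq.ws 12)) ∧ (y * (γ 3)⁻¹ * y⁻¹ * γ 3 * γ 17 = γ 17 * (y * (γ 3)⁻¹ * y⁻¹ * γ 3) → y * (γ 3)⁻¹ * y⁻¹ * γ 3 * γ 18 = γ 18 * (y * (γ 3)⁻¹ * y⁻¹ * γ 3) → y ∈ genW γ (sq.ws 12)) ∧ (y * γ 18 = γ 18 * y ∨ y * γ 18 * y⁻¹ = (γ 18)⁻¹) ∧ y * y ∈ genW γ (sq.ws 12) :=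
  g.transfer e sq_q_ev

/-- a formula -/
def sq_T8_f : Fm := .all 2 40 [] (.and (.one (.mul (.l 40) (.l 40))) (.or (.one (.l 40)) (.or (.eq (.l 40) (.l 5)) (.or (.ex 5 41 [(.l 9, .l 40)] (.tt)) (.ex 5 41 [(.l 9, .mul (.l 40) (.l 5))] (.tt))))))

theorem sq_T8_ev : sq.eval sq_T8_f = true := by decide +kernel

theorem sq_T8 {G : Type*} [Group G] {γ : ℕ → G} {k : ℕ} {N : List W} (g : Gf sq γ k N)
    (e : tyB sq k N sq_T8_f = true := by decide +kernel) :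
    ∀ y ∈ genW γ (sq.ws 2), y * y = 1 ∧ (y = 1 ∨ y = γ 5 ∨ (∃ k ∈ genW γ (sq.ws 5), k * γ 9 = y * k ∧ True) ∨ (∃ k ∈ genW γ (sq.ws 5), k * γ 9 = y * γ 5 * k ∧ True)) :=
  g.transfer e sq_T8_ev

/-- a formula -/
def sq_v_f : Fm := .all 0 40 [(.l 3, .l 3), (.l 10, .l 10), (.l 5, .l 5)] (.imp (.one (.mul (.l 40) (.l 40))) (.imp (.one (.pow (.mul (.mul (.l 40) (.l 10)) (.l 1)) 3)) (.imp (.one (.mul (.pow (.mul (.mul (.l 40) (.l 1)) (.l 2)) 3) (.l 5))) (.eq (.l 40) (.l 9)))))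

theorem sq_v_ev : sq.eval sq_v_f = true := by decide +kernel

theorem sq_v {G : Type*} [Group G] {γ : ℕ → G} {k : ℕ} {N : List W} (g : Gf sq γ k N)
    (e : tyB sq k N sq_v_f = true := by decide +kernel) :
    ∀ y ∈ genW γ (sq.ws 0), y * γ 3 = γ 3 * y → y * γ 10 = γ 10 * y → y * γ 5 = γ 5 * y → y * y = 1 → (y * γ 10 * γ 1) ^ 3 = 1 → (y * γ 1 * γ 2) ^ 3 * γ 5 = 1 → y = γ 9 :=
  g.transfer e sq_v_ev

/-- a formula -/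
def sq_I_f : Fm := .all 0 40 [(.l 2, .l 2), (.mul (.mul (.mul (.l 4) (.l 8)) (.l 10)) (.l 5), .mul (.mul (.mul (.l 4) (.l 8)) (.l 10)) (.l 5)), (.l 10, .l 10)] (.imp (.one (.mul (.l 40) (.l 40))) (.imp (.one (.pow (.mul (.mul (.l 40) (.mul (.mul (.mul (.l 4) (.l 8)) (.l 10)) (.l 5))) (.mul (.inv (.l 1)) (.inv (.l 3)))) 3)) (.imp (.one (.mul (.pow (.mul (.mul (.l 40) (.mul (.inv (.l 1)) (.inv (.l 3)))) (.mul (.l 1) (.inv (.l 3)))) 3) (.l 10))) (.eq (.l 40) (.mul (.mul (.mul (.inv (.l 4)) (.l 7)) (.l 9)) (.l 4))))))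

theorem sq_I_ev : sq.eval sq_I_f = true := by decide +kernel

theorem sq_I {G : Type*} [Group G] {γ : ℕ → G} {k : ℕ} {N : List W} (g : Gf sq γ k N)
    (e : tyB sq k N sq_I_f = true := by decide +kernel) :
    ∀ y ∈ genW γ (sq.ws 0), y * γ 2 = γ 2 * y → y * (γ 4 * γ 8 * γ 10 * γ 5) = γ 4 * γ 8 * γ 10 * γ 5 * y → y * γ 10 = γ 10 * y → y * y = 1 → (y * (γ 4 * γ 8 * γ 10 * γ 5) * ((γ 1)⁻¹ * (γ 3)⁻¹)) ^ 3 = 1 → (y * ((γ 1)⁻¹ * (γ 3)⁻¹) * (γ 1 * (γ 3)⁻¹)) ^ 3 * γ 10 = 1 → y = (γ 4)⁻¹ * γ 7 * γ 9 * γ 4 :=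
  g.transfer e sq_I_ev

/-- a formula -/
def sq_A_f : Fm := .all 8 40 [] (.and (.one (.mul (.l 40) (.l 40))) (.or (.mem 6 (.mul (.mul (.l 0) (.l 40)) (.inv (.l 0)))) (.or (.mem 6 (.mul (.mul (.l 5) (.l 40)) (.inv (.l 5)))) (.or (.mem 6 (.mul (.mul (.l 9) (.l 40)) (.inv (.l 9)))) (.or (.mem 6 (.mul (.mul (.mul (.l 5) (.l 9)) (.l 40)) (.inv (.mul (.l 5) (.l 9))))) (.or (.mem 6 (.mul (.mul (.mul (.l 9) (.l 2)) (.l 40)) (.inv (.mul (.l 9) (.l 2))))) (.or (.mem 6 (.mul (.mul (.mul (.l 9) (.inv (.l 2))) (.l 40)) (.inv (.mul (.l 9) (.inv (.l 2)))))) (.mem 6 (.mul (.mul (.mul (.l 9) (.l 1)) (.l 40)) (.inv (.mul (.l 9) (.l 1))))))))))))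

theorem sq_A_ev : sq.eval sq_A_f = true := by decide +kernel

theorem sq_A {G : Type*} [Group G] {γ : ℕ → G} {k : ℕ} {N : List W} (g : Gf sq γ k N)
    (e : tyB sq k N sq_A_f = true := by decide +kernel) :
    ∀ y ∈ genW γ (sq.ws 8), y * y = 1 ∧ (γ 0 * y * (γ 0)⁻¹ ∈ genW γ (sq.ws 6) ∨ γ 5 * y * (γ 5)⁻¹ ∈ genW γ (sq.ws 6) ∨ γ 9 * y * (γ 9)⁻¹ ∈ genW γ (sq.ws 6) ∨ γ 5 * γ 9 * y * (γ 5 * γ 9)⁻¹ ∈ genW γ (sq.ws 6) ∨ γ 9 * γ 2 * y * (γ 9 * γ 2)⁻¹ ∈ genW γ (sq.ws 6) ∨ γ 9 * (γ 2)⁻¹ * y * (γ 9 * (γ 2)⁻¹)⁻¹ ∈ genW γ (sq.ws 6) ∨ γ 9 * γ 1 * y * (γ 9 * γ 1)⁻¹ ∈ genW γ (sq.ws 6)) :=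
  g.transfer e sq_A_ev

end Cfsg.Lib.F43
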