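import Cfsg.Agent.Lib.F43.M1

/-! Facts in the models (generated, helper24). -/

set_option autoImplicit false
set_option maxRecDepth 1000000
set_option maxHeartbeats 0

namespace Cfsg.Lib.F43

open Cfsg.Lib.Calc Cfsg.Lib.Grp Cfsg.Lib.T2 Cfsg.Lib.T3

theorem gu_pair : ∀ e ∈ genW gu.gam (gu.ws 1), ∀ f ∈ genW gu.gam (gu.ws 1), e * f = gu.gam 16 * f * e → ∃ k ∈ genW gu.gam (gu.ws 0), k * gu.gam 15 = e * k ∧ k * gu.gam 4 = f * k ∧ k * gu.gam 16 = gu.gam 16 * k ∧ True :=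
  gu_ok.holds (φ := .all 1 40 [] (.all 1 41 [] (.imp (.eq (.mul (.l 40) (.l 41)) (.mul (.mul (.l 16) (.l 41)) (.l 40))) (.ex 0 42 [(.l 15, .l 40), (.l 4, .l 41), (.l 16, .l 16)] (.tt))))) (by decide +kernel)

theorem gu_q8 : ∀ k ∈ genW gu.gam (gu.ws 0), k * gu.gam 5 * k⁻¹ * (gu.gam 5)⁻¹ * gu.gam 15 = gu.gam 15 * (k * gu.gam 5 * k⁻¹ * (gu.gam 5)⁻¹) → k * gu.gam 5 * k⁻¹ * (gu.gam 5)⁻¹ * gu.gam 4 = gu.gam 4 * (k * gu.gam 5 * k⁻¹ * (gu.gam 5)⁻¹) → k ^ 64 * gu.gam 15 = gu.gam 15 * k ^ 64 → k ^ 64 * gu.gam 4 = gu.gam 4 * k ^ 64 → ∃ l ∈ genW gu.gam (gu.ws 3), l * gu.gam 15 = k * gu.gam 15 * k⁻¹ * l ∧ l * gu.gam 4 = k * gu.gam 4 * k⁻¹ * l ∧ l * gu.gam 16 = k * gu.gam 16 * k⁻¹ * l ∧ True :=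
  gu_ok.holds (φ := .all 0 40 [] (.imp (.eq (.mul (.mul (.mul (.mul (.l 40) (.l 5)) (.inv (.l 40))) (.inv (.l 5))) (.l 15)) (.mul (.l 15) (.mul (.mul (.mul (.l 40) (.l 5)) (.inv (.l 40))) (.inv (.l 5))))) (.imp (.eq (.mul (.mul (.mul (.mul (.l 40) (.l 5)) (.inv (.l 40))) (.inv (.l 5))) (.l 4)) (.mul (.l 4) (.mul (.mul (.mul (.l 40) (.l 5)) (.inv (.l 40))) (.inv (.l 5))))) (.imp (.eq (.mul (.pow (.l 40) 64) (.l 15)) (.mul (.l 15) (.pow (.l 40) 64))) (.imp (.eq (.mul (.pow (.l 40) 64) (.l 4)) (.mul (.l 4) (.pow (.l 40) 64))) (.ex 3 41 [(.l 15, .mul (.mul (.l 40) (.l 15)) (.inv (.l 40))), (.l 4, .mul (.mul (.l 40) (.l 4)) (.inv (.l 40))), (.l 16, .mul (.mul (.l 40) (.l 16)) (.inv (.l 40)))] (.tt))))))) (by decide +kernel)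

/-- a formula -/
def gu_tr_f : Fm := .all 1 40 [] (.or (.mem 2 (.l 40)) (.ex 4 41 [(.l 15, .l 40)] (.tt)))

theorem gu_tr_ev : gu.eval gu_tr_f = true := by decide +kernel

theorem gu_tr {G : Type*} [Group G] {γ : ℕ → G} {k : ℕ} {N : List W} (g : Gf gu γ k N)
    (e : tyB gu k N gu_tr_f = true := by decide +kernel) :
    ∀ e ∈ genW γ (gu.ws 1), e ∈ genW γ (gu.ws 2) ∨ (∃ m ∈ genW γ (gu.ws 4), m * γ 15 = e * m ∧ True) :=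
  g.transfer e gu_tr_ev

theorem gu_h2 : ∀ k ∈ genW gu.gam (gu.ws 4), k ^ 3 * gu.gam 15 = gu.gam 15 * k ^ 3 → k ^ 3 * gu.gam 4 = gu.gam 4 * k ^ 3 → k ∈ genW gu.gam (gu.ws 1) :=
  gu_ok.holds (φ := .all 4 40 [] (.imp (.eq (.mul (.pow (.l 40) 3) (.l 15)) (.mul (.l 15) (.pow (.l 40) 3))) (.imp (.eq (.mul (.pow (.l 40) 3) (.l 4)) (.mul (.l 4) (.pow (.l 40) 3))) (.mem 1 (.l 40))))) (by decide +kernel)

/-- a formula -/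
def gu_cp_f : Fm := .all 4 40 [(.l 15, .l 15)] (.mem 5 (.l 40))

theorem gu_cp_ev : gu.eval gu_cp_f = true := by decide +kernel

theorem gu_cp {G : Type*} [Group G] {γ : ℕ → G} {k : ℕ} {N : List W} (g : Gf gu γ k N)
    (e : tyB gu k N gu_cp_f = true := by decide +kernel) :
    ∀ m ∈ genW γ (gu.ws 4), m * γ 15 = γ 15 * m → m ∈ genW γ (gu.ws 5) :=
  g.transfer e gu_cp_ev

/-- a formula -/
def gu_cp0_f : Fm := .all 0 40 [(.l 15, .l 15)] (.mem 6 (.l 40))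

theorem gu_cp0_ev : gu.eval gu_cp0_f = true := by decide +kernel

theorem gu_cp0 {G : Type*} [Group G] {γ : ℕ → G} {k : ℕ} {N : List W} (g : Gf gu γ k N)
    (e : tyB gu k N gu_cp0_f = true := by decide +kernel) :
    ∀ m ∈ genW γ (gu.ws 0), m * γ 15 = γ 15 * m → m ∈ genW γ (gu.ws 6) :=
  g.transfer e gu_cp0_ev

theorem qm_pair : ∀ a ∈ genW qm.gam (qm.ws 2), ∀ b ∈ genW qm.gam (qm.ws 3), b * a = qm.gam 11 * qm.gam 15 → ∀ h ∈ genW qm.gam (qm.ws 2), a * h = qm.gam 16 * h * a → ∀ k ∈ genW qm.gam (qm.ws 3), b * k = qm.gam 16 * k * b → ∃ l ∈ genW qm.gam (qm.ws 7), l * qm.gam 15 = a * l ∧ l * qm.gam 4 = h * l ∧ l * qm.gam 11 = b * l ∧ l * qm.gam 13 = k * l ∧ l * qm.gam 16 = qm.gam 16 * l ∧ True :=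
  qm_ok.holds (φ := .all 2 40 [] (.all 3 41 [] (.imp (.eq (.mul (.l 41) (.l 40)) (.mul (.l 11) (.l 15))) (.all 2 42 [] (.imp (.eq (.mul (.l 40) (.l 42)) (.mul (.mul (.l 16) (.l 42)) (.l 40))) (.all 3 43 [] (.imp (.eq (.mul (.l 41) (.l 43)) (.mul (.mul (.l 16) (.l 43)) (.l 41))) (.ex 7 44 [(.l 15, .l 40), (.l 4, .l 42), (.l 11, .l 41), (.l 13, .l 43), (.l 16, .l 16)] (.tt))))))))) (by decide +kernel)

/-- a formula -/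
def qm_A_f : Fm := .all 1 40 [(.l 15, .l 15), (.l 11, .l 11)] (.and (.mem 5 (.l 40)) (.and (.or (.mem 6 (.l 40)) (.ex 6 41 [] (.or (.eq (.mul (.l 40) (.l 41)) (.l 15)) (.eq (.mul (.l 40) (.l 41)) (.inv (.l 15)))))) (.or (.mem 6 (.l 40)) (.or (.and (.mem 3 (.l 40)) (.not (.mem 4 (.l 40)))) (.or (.and (.mem 3 (.mul (.l 40) (.mul (.l 11) (.l 15)))) (.not (.mem 4 (.mul (.l 40) (.mul (.l 11) (.l 15)))))) (.and (.mem 3 (.mul (.l 40) (.inv (.mul (.l 11) (.l 15))))) (.not (.mem 4 (.mul (.l 40) (.inv (.mul (.l 11) (.l 15))))))))))))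

theorem qm_A_ev : qm.eval qm_A_f = true := by decide +kernel

theorem qm_A {G : Type*} [Group G] {γ : ℕ → G} {k : ℕ} {N : List W} (g : Gf qm γ k N)
    (e : tyB qm k N qm_A_f = true := by decide +kernel) :
    ∀ a ∈ genW γ (qm.ws 1), a * γ 15 = γ 15 * a → a * γ 11 = γ 11 * a → a ∈ genW γ (qm.ws 5) ∧ (a ∈ genW γ (qm.ws 6) ∨ (∃ l ∈ genW γ (qm.ws 6), a * l = γ 15 ∨ a * l = (γ 15)⁻¹)) ∧ (a ∈ genW γ (qm.ws 6) ∨ a ∈ genW γ (qm.ws 3) ∧ a ∉ genW γ (qm.ws 4) ∨ a * (γ 11 * γ 15) ∈ genW γ (qm.ws 3) ∧ a * (γ 11 * γ 15) ∉ genW γ (qm.ws 4) ∨ a * (γ 11 * γ 15)⁻¹ ∈ genW γ (qm.ws 3) ∧ a * (γ 11 * γ 15)⁻¹ ∉ genW γ (qm.ws 4)) :=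
  g.transfer e qm_A_ev

/-- a formula -/
def qm_ty_f : Fm := .and (.eq (.mul (.l 40) (.l 15)) (.mul (.l 15) (.l 40))) (.and (.eq (.mul (.l 40) (.l 11)) (.mul (.l 11) (.l 40))) (.all 1 41 [(.mul (.l 11) (.l 15), .mul (.l 11) (.l 15))] (.or (.mem 5 (.l 41)) (.and (.eq (.mul (.mul (.mul (.mul (.l 40) (.l 41)) (.inv (.l 40))) (.inv (.l 41))) (.l 15)) (.mul (.l 15) (.mul (.mul (.mul (.l 40) (.l 41)) (.inv (.l 40))) (.inv (.l 41))))) (.and (.eq (.mul (.mul (.mul (.mul (.l 40) (.l 41)) (.inv (.l 40))) (.inv (.l 41))) (.l 11)) (.mul (.l 11) (.mul (.mul (.mul (.l 40) (.l 41)) (.inv (.l 40))) (.inv (.l 41))))) (.imp (.mem 6 (.mul (.mul (.mul (.l 40) (.l 41)) (.inv (.l 40))) (.inv (.l 41)))) (.or (.and (.eq (.mul (.mul (.l 40) (.l 4)) (.inv (.l 40))) (.l 4)) (.eq (.mul (.mul (.l 40) (.l 13)) (.inv (.l 40))) (.l 13)))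 (.or (.and (.eq (.mul (.mul (.l 40) (.l 4)) (.inv (.l 40))) (.mul (.mul (.l 15) (.l 4)) (.l 16))) (.eq (.mul (.mul (.l 40) (.l 13)) (.inv (.l 40))) (.mul (.mul (.l 16) (.l 13)) (.inv (.l 11))))) (.and (.eq (.mul (.mul (.inv (.l 40)) (.l 4)) (.l 40)) (.mul (.mul (.l 15) (.l 4)) (.l 16))) (.eq (.mul (.mul (.inv (.l 40)) (.l 13)) (.l 40)) (.mul (.mul (.l 16) (.l 13)) (.inv (.l 11)))))))))))))

theorem qm_ty_ev : qm.eval (.all 8 40 [] qm_ty_f) = true := by decide +kernel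

theorem qm_ty {G : Type*} [Group G] {γ : ℕ → G} {k : ℕ} {N : List W} (g : Gf qm γ k N) {n : G} {b : Equiv.Perm (Fin qm.n)}
    (hx : (n, b) ∈ Subgroup.normalizer (Dg qm γ k : Set (G × Equiv.Perm (Fin qm.n)))) (hb : b ∈ qm.K 8)
    (e : ((W.l 0 :: qm.ws k ++ N).all (avoid 40) && ty (fun j => (qm.ws j).all (av (qm.ws k) N)) qm_ty_f (qm.ws k) (.l 40 :: N)) = true := by
      decide +kernel) :
    n * γ 15 = γ 15 * n ∧ n * γ 11 = γ 11 * n ∧ (∀ u ∈ genW γ (qm.ws 1), u * (γ 11 * γ 15) = γ 11 * γ 15 * u → u ∈ genW γ (qm.ws 5) ∨ n * u * n⁻¹ * u⁻¹ * γ 15 = γ 15 * (n * u * n⁻¹ * u⁻¹) ∧ n * u * n⁻¹ * u⁻¹ * γ 11 = γ 11 * (n * u * n⁻¹ * u⁻¹) ∧ (n * u * n⁻¹ * u⁻¹ ∈ genW γ (qm.ws 6) → n * γ 4 * n⁻¹ = γ 4 ∧ n * γ 13 * n⁻¹ = γ 13 ∨ n * γ 4 * n⁻¹ = γ 15 * γ 4 * γ 16 ∧ n * γ 13 * n⁻¹ = γ 16 * γ 13 * (γ 11)⁻¹ ∨ n⁻¹ * γ 4 *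 n = γ 15 * γ 4 * γ 16 ∧ n⁻¹ * γ 13 * n = γ 16 * γ 13 * (γ 11)⁻¹)) :=
  Loc3.tr_upd g hx hb qm_ty_ev e

/-- a formula -/
def qm_sh_f : Fm := .all 5 40 [] (.or (.ex 1 41 [(.mul (.inv (.l 40)) (.l 3), .l 3)] (.tt)) (.or (.ex 1 41 [(.mul (.inv (.l 40)) (.l 3), .mul (.l 3) (.l 16))] (.tt)) (.ex 1 41 [(.mul (.inv (.l 40)) (.l 3), .mul (.l 3) (.inv (.l 16)))] (.tt))))

theorem qm_sh_ev : qm.eval qm_sh_f = true := by decide +kernel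

theorem qm_sh {G : Type*} [Group G] {γ : ℕ → G} {k : ℕ} {N : List W} (g : Gf qm γ k N)
    (e : tyB qm k N qm_sh_f = true := by decide +kernel) :
    ∀ m ∈ genW γ (qm.ws 5), (∃ q ∈ genW γ (qm.ws 1), q * (m⁻¹ * γ 3) = γ 3 * q ∧ True) ∨ (∃ q ∈ genW γ (qm.ws 1), q * (m⁻¹ * γ 3) = γ 3 * γ 16 * q ∧ True) ∨ (∃ q ∈ genW γ (qm.ws 1), q * (m⁻¹ * γ 3) = γ 3 * (γ 16)⁻¹ * q ∧ True) :=
  g.transfer e qm_sh_ev

end Cfsg.Lib.F43
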