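import Cfsg.Agent.Lib.F43.M1
import Cfsg.Agent.Lib.Loc3.Gen5

/-! Facts about the normaliser of `J` (generated, helper24). -/

set_option autoImplicit false
set_option maxRecDepth 1000000
set_option maxHeartbeats 0

namespace Cfsg.Lib.F43

open Cfsg.Lib.Loc3 Cfsg.Lib.Calc Cfsg.Lib.Grp Cfsg.Lib.T2 Cfsg.Lib.T3

/-- words -/
def cl_oy : List (List ℕ) := [[], [4], [5], [12], [4, 4], [5, 4], [12, 4], [4, 5], [12, 5], [13, 12], [12, 5, 4], [12, 4, 5]]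

/-- words -/
def cl_oz : List (List ℕ) := [[], [4], [13], [4, 4], [13, 4], [13, 13], [13, 4, 4], [13, 13, 4], [13, 13, 4, 4]]

/-- words -/
def cl_oZ : List (List ℕ) := [[], [4], [13], [4, 4], [13, 4], [13, 13], [13, 4, 4], [13, 13, 4], [13, 13, 4, 4]]

/-- words -/
def cl_oc : List (List ℕ) := [[], [4], [13], [4, 4], [13, 4], [13, 13], [13, 4, 4], [13, 13, 4], [13, 13, 4, 4]]

/-- words -/
def cl_oC : List (List ℕ) := [[], [4], [13], [4, 4], [13, 4], [13, 13], [13, 4, 4], [13, 13, 4], [13, 13, 4, 4]]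

/-- words -/
def cl_ow : List (List ℕ) := [[], [4], [13], [4, 4], [13, 4], [13, 13], [13, 4, 4], [13, 13, 4], [13, 13, 4, 4]]

/-- words -/
def cl_oW : List (List ℕ) := [[], [4], [13], [4, 4], [13, 4], [13, 13], [13, 4, 4], [13, 13, 4], [13, 13, 4, 4]]

/-- words -/
def cl_o1 : List (List ℕ) := [[], [7], [8], [10], [4, 7], [8, 7], [10, 7], [13, 7], [13, 10], [4, 4, 7], [13, 4, 7], [14, 4, 7], [13, 10, 7], [14, 10, 7], [7, 13, 7], [10, 13, 7], [7, 13, 10], [8, 13, 10], [12, 13, 10], [13, 4, 4, 7], [7, 13, 4, 7], [10, 14, 4, 7], [7, 13, 10, 7], [8, 13, 10, 7], [12, 13, 10, 7], [10, 14, 10, 7], [10, 7, 13, 7], [4, 7, 13, 10], [8, 7, 13, 10], [12, 7, 13, 10], [7, 13, 4, 4, 7], [4, 7, 13, 4, 7]]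

/-- words -/
def cl_o2 : List (List ℕ) := [[], [4], [13], [14], [4, 4], [13, 4], [14, 4], [13, 13], [14, 13], [13, 4, 4], [14, 4, 4], [13, 13, 4], [14, 13, 4], [14, 13, 13], [13, 13, 4, 4], [14, 13, 4, 4], [14, 13, 13, 4], [14, 13, 13, 4, 4]]

/-- a formula -/
def nj_U1_f : Fm := .all 1 40 [] (.imp (.or (.mem 8 (.l 40)) (.or (.mem 9 (.l 40)) (.or (.mem 10 (.l 40)) (.mem 11 (.l 40))))) (.or (.one (.l 40)) (.or (.eq (.l 40) (.l 16)) (.or (.eq (.l 40) (.inv (.l 16))) (.or (clsF cl_oy (.mul (.l 11) (.l 15)) (.l 40)) (.or (clsF cl_oz (.mul (.l 3) (.l 16)) (.l 40)) (clsF cl_oZ (.inv (.mul (.l 3) (.l 16))) (.l 40))))))))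

theorem nj_U1_ev : nj.eval nj_U1_f = true := by decide +kernel

theorem nj_U1 {G : Type*} [Group G] {γ : ℕ → G} {k : ℕ} {N : List W} (g : Gf nj γ k N)
    (e : tyB nj k N nj_U1_f = true := by decide +kernel) :
    ∀ v ∈ genW γ (nj.ws 1), v ∈ genW γ (nj.ws 8) ∨ v ∈ genW γ (nj.ws 9) ∨ v ∈ genW γ (nj.ws 10) ∨ v ∈ genW γ (nj.ws 11) → v = 1 ∨ v = γ 16 ∨ v = (γ 16)⁻¹ ∨ (clsF cl_oy (.mul (.l 11) (.l 15)) (.l 40)).holds (fun k => genW γ (nj.ws k)) (upd γ 40 v) ∨ (clsF cl_oz (.mul (.l 3) (.l 16)) (.l 40)).holds (fun k => genW γ (nj.ws k)) (upd γ 40 v) ∨ (clsF cl_oZ (.inv (.mul (.l 3) (.l 16))) (.l 40)).holds (fun k => genW γ (nj.ws k)) (upd γ 40 v) :=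
  g.transfer e nj_U1_ev

/-- a formula -/
def nj_U2_f : Fm := .all 1 40 [] (.or (.or (.mem 8 (.l 40)) (.or (.mem 9 (.l 40)) (.or (.mem 10 (.l 40)) (.mem 11 (.l 40))))) (.or (.and (.mem 16 (.l 40)) (.not (.mem 7 (.l 40)))) (.or (.and (.mem 17 (.l 40)) (.not (.mem 7 (.l 40)))) (.or (clsF cl_oc (.l 3) (.l 40)) (.or (clsF cl_oC (.inv (.l 3)) (.l 40)) (.or (clsF cl_ow (.mul (.l 3) (.inv (.l 16))) (.l 40)) (clsF cl_oW (.inv (.mul (.l 3) (.inv (.l 16)))) (.l 40))))))))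

theorem nj_U2_ev : nj.eval nj_U2_f = true := by decide +kernel

theorem nj_U2 {G : Type*} [Group G] {γ : ℕ → G} {k : ℕ} {N : List W} (g : Gf nj γ k N)
    (e : tyB nj k N nj_U2_f = true := by decide +kernel) :
    ∀ v ∈ genW γ (nj.ws 1), (v ∈ genW γ (nj.ws 8) ∨ v ∈ genW γ (nj.ws 9) ∨ v ∈ genW γ (nj.ws 10) ∨ v ∈ genW γ (nj.ws 11)) ∨ v ∈ genW γ (nj.ws 16) ∧ v ∉ genW γ (nj.ws 7) ∨ v ∈ genW γ (nj.ws 17) ∧ v ∉ genW γ (nj.ws 7) ∨ (clsF cl_oc (.l 3) (.l 40)).holds (fun k => genW γ (nj.ws k)) (upd γ 40 v) ∨ (clsF cl_oC (.inv (.l 3)) (.l 40)).holds (fun k => genW γ (nj.ws k)) (upd γ 40 v) ∨ (clsF cl_ow (.mul (.l 3) (.inv (.l 16))) (.l 40)).holds (fun k => genW γ (nj.ws k)) (upd γ 40 v) ∨ (clsF cl_oW (.inv (.mul (.l 3) (.inv (.l 16)))) (.l 40)).holds (fun k => genW γ (nj.ws k)) (upd γ 40 v) :=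
  g.transfer e nj_U2_ev

/-- a formula -/
def nj_cS_f : Fm := .all 6 40 [] (.imp (.mem 2 (.l 40)) (.or (.one (.l 40)) (.or (.all 1 41 [(.l 40, .l 40)] (.mem 16 (.l 41))) (.or (.all 1 41 [(.l 40, .l 40)] (.mem 17 (.l 41))) (.or (.all 1 41 [(.l 40, .l 40)] (.mem 8 (.l 41))) (.all 1 41 [(.l 40, .l 40)] (.mem 18 (.l 41))))))))

theorem nj_cS_ev : nj.eval nj_cS_f = true := by decide +kernel

theorem nj_cS {G : Type*} [Group G] {γ : ℕ → G} {k : ℕ} {N : List W} (g : Gf nj γ k N)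
    (e : tyB nj k N nj_cS_f = true := by decide +kernel) :
    ∀ h ∈ genW γ (nj.ws 6), h ∈ genW γ (nj.ws 2) → h = 1 ∨ (∀ j ∈ genW γ (nj.ws 1), j * h = h * j → j ∈ genW γ (nj.ws 16)) ∨ (∀ j ∈ genW γ (nj.ws 1), j * h = h * j → j ∈ genW γ (nj.ws 17)) ∨ (∀ j ∈ genW γ (nj.ws 1), j * h = h * j → j ∈ genW γ (nj.ws 8)) ∨ (∀ j ∈ genW γ (nj.ws 1), j * h = h * j → j ∈ genW γ (nj.ws 18)) :=
  g.transfer e nj_cS_ev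

/-- a formula -/
def nj_zS_f : Fm := .all 2 40 [(.l 3, .l 3), (.l 11, .l 11), (.l 4, .l 4), (.l 13, .l 13)] (.mem 7 (.l 40))

theorem nj_zS_ev : nj.eval nj_zS_f = true := by decide +kernel

theorem nj_zS {G : Type*} [Group G] {γ : ℕ → G} {k : ℕ} {N : List W} (g : Gf nj γ k N)
    (e : tyB nj k N nj_zS_f = true := by decide +kernel) :
    ∀ h ∈ genW γ (nj.ws 2), h * γ 3 = γ 3 * h → h * γ 11 = γ 11 * h → h * γ 4 = γ 4 * h → h * γ 13 = γ 13 * h → h ∈ genW γ (nj.ws 7) :=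
  g.transfer e nj_zS_ev

theorem nj_O1 : ∀ v ∈ genW nj.gam (nj.ws 1), v ∈ genW nj.gam (nj.ws 8) ∨ v ∈ genW nj.gam (nj.ws 9) ∨ v ∈ genW nj.gam (nj.ws 10) ∨ v ∈ genW nj.gam (nj.ws 11) → v = 1 ∨ (clsF cl_o1 (.l 16) (.l 40)).holds (fun k => genW nj.gam (nj.ws k)) (upd nj.gam 40 v) :=
  nj_ok.holds (φ := .all 1 40 [] (.imp (.or (.mem 8 (.l 40)) (.or (.mem 9 (.l 40)) (.or (.mem 10 (.l 40)) (.mem 11 (.l 40))))) (.or (.one (.l 40)) (clsF cl_o1 (.l 16) (.l 40))))) (by decide +kernel)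

theorem nj_O2 : ∀ v ∈ genW nj.gam (nj.ws 1), v ∈ genW nj.gam (nj.ws 8) ∨ v ∈ genW nj.gam (nj.ws 9) ∨ v ∈ genW nj.gam (nj.ws 10) ∨ v ∈ genW nj.gam (nj.ws 11) → (nj.gam 4 * v * (nj.gam 4)⁻¹ ∈ genW nj.gam (nj.ws 8) ∨ nj.gam 4 * v * (nj.gam 4)⁻¹ ∈ genW nj.gam (nj.ws 9) ∨ nj.gam 4 * v * (nj.gam 4)⁻¹ ∈ genW nj.gam (nj.ws 10) ∨ nj.gam 4 * v * (nj.gam 4)⁻¹ ∈ genW nj.gam (nj.ws 11)) ∧ (nj.gam 5 * v * (nj.gam 5)⁻¹ ∈ genW nj.gam (nj.ws 8) ∨ nj.gam 5 * v * (nj.gam 5)⁻¹ ∈ genW nj.gam (nj.ws 9) ∨ nj.gam 5 * v * (nj.gam 5)⁻¹ ∈ genW nj.gam (nj.ws 10) ∨ nj.gam 5 * v * (nj.gam 5)⁻¹ ∈ genW nj.gam (nj.ws 11)) ∧ (nj.gam 7 * v * (nj.gam 7)⁻¹ ∈ genW nj.gam (nj.ws 8) ∨ nj.gam 7 * v * (nj.gam 7)⁻¹ ∈ genW nj.gam (nj.ws 9) ∨ nj.gam 7 * v * (nj.gam 7)⁻¹ ∈ genW nj.gam (nj.ws 10) ∨ nj.gam 7 * v * (nj.gam 7)⁻¹ ∈ genW nj.gam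 (nj.ws 11)) ∧ (nj.gam 8 * v * (nj.gam 8)⁻¹ ∈ genW nj.gam (nj.ws 8) ∨ nj.gam 8 * v * (nj.gam 8)⁻¹ ∈ genW nj.gam (nj.ws 9) ∨ nj.gam 8 * v * (nj.gam 8)⁻¹ ∈ genW nj.gam (nj.ws 10) ∨ nj.gam 8 * v * (nj.gam 8)⁻¹ ∈ genW nj.gam (nj.ws 11)) ∧ (nj.gam 10 * v * (nj.gam 10)⁻¹ ∈ genW nj.gam (nj.ws 8) ∨ nj.gam 10 * v * (nj.gam 10)⁻¹ ∈ genW nj.gam (nj.ws 9) ∨ nj.gam 10 * v * (nj.gam 10)⁻¹ ∈ genW nj.gam (nj.ws 10) ∨ nj.gam 10 * v * (nj.gam 10)⁻¹ ∈ genW nj.gam (nj.ws 11)) ∧ (nj.gam 12 * v * (nj.gam 12)⁻¹ ∈ genW nj.gam (nj.ws 8) ∨ nj.gam 12 * v * (nj.gam 12)⁻¹ ∈ genW nj.gam (nj.ws 9) ∨ nj.gam 12 * v * (nj.gam 12)⁻¹ ∈ genW nj.gam (nj.ws 10) ∨ nj.gam 12 * v * (nj.gam 12)⁻¹ ∈ genW nj.gam (nj.ws 11)) ∧ (nj.gam 13 * v * (nj.gam 13)⁻¹ ∈ genW nj.gam (nj.ws 8) ∨ nj.gam 13 * v * (nj.gam 13)⁻¹ ∈ genW nj.gam (nj.ws 9) ∨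 nj.gam 13 * v * (nj.gam 13)⁻¹ ∈ genW nj.gam (nj.ws 10) ∨ nj.gam 13 * v * (nj.gam 13)⁻¹ ∈ genW nj.gam (nj.ws 11)) ∧ (nj.gam 14 * v * (nj.gam 14)⁻¹ ∈ genW nj.gam (nj.ws 8) ∨ nj.gam 14 * v * (nj.gam 14)⁻¹ ∈ genW nj.gam (nj.ws 9) ∨ nj.gam 14 * v * (nj.gam 14)⁻¹ ∈ genW nj.gam (nj.ws 10) ∨ nj.gam 14 * v * (nj.gam 14)⁻¹ ∈ genW nj.gam (nj.ws 11)) :=
  nj_ok.holds (φ := .all 1 40 [] (.imp (.or (.mem 8 (.l 40)) (.or (.mem 9 (.l 40)) (.or (.mem 10 (.l 40)) (.mem 11 (.l 40))))) (.and (.or (.mem 8 (.mul (.mul (.l 4) (.l 40)) (.inv (.l 4)))) (.or (.mem 9 (.mul (.mul (.l 4) (.l 40)) (.inv (.l 4)))) (.or (.mem 10 (.mul (.mul (.l 4) (.l 40)) (.inv (.l 4)))) (.mem 11 (.mul (.mul (.l 4) (.l 40)) (.inv (.l 4))))))) (.and (.or (.mem 8 (.mul (.mul (.l 5) (.l 40)) (.inv (.l 5)))) (.or (.mem 9 (.mul (.mul (.l 5) (.l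 40)) (.inv (.l 5)))) (.or (.mem 10 (.mul (.mul (.l 5) (.l 40)) (.inv (.l 5)))) (.mem 11 (.mul (.mul (.l 5) (.l 40)) (.inv (.l 5))))))) (.and (.or (.mem 8 (.mul (.mul (.l 7) (.l 40)) (.inv (.l 7)))) (.or (.mem 9 (.mul (.mul (.l 7) (.l 40)) (.inv (.l 7)))) (.or (.mem 10 (.mul (.mul (.l 7) (.l 40)) (.inv (.l 7)))) (.mem 11 (.mul (.mul (.l 7) (.l 40)) (.inv (.l 7))))))) (.and (.or (.mem 8 (.mul (.mul (.l 8) (.l 40)) (.inv (.l 8)))) (.or (.mem 9 (.mul (.mul (.l 8) (.l 40)) (.inv (.l 8)))) (.or (.mem 10 (.mul (.mul (.l 8) (.l 40)) (.inv (.l 8)))) (.mem 11 (.mul (.mul (.l 8) (.l 40)) (.inv (.l 8))))))) (.and (.or (.mem 8 (.mul (.mul (.l 10) (.l 40)) (.inv (.l 10)))) (.or (.mem 9 (.mul (.mul (.l 10) (.l 40)) (.inv (.l 10)))) (.or (.mem 10 (.mul (.mul (.l 10) (.l 40)) (.inv (.l 10)))) (.mem 11 (.mul (.mul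 (.l 10) (.l 40)) (.inv (.l 10))))))) (.and (.or (.mem 8 (.mul (.mul (.l 12) (.l 40)) (.inv (.l 12)))) (.or (.mem 9 (.mul (.mul (.l 12) (.l 40)) (.inv (.l 12)))) (.or (.mem 10 (.mul (.mul (.l 12) (.l 40)) (.inv (.l 12)))) (.mem 11 (.mul (.mul (.l 12) (.l 40)) (.inv (.l 12))))))) (.and (.or (.mem 8 (.mul (.mul (.l 13) (.l 40)) (.inv (.l 13)))) (.or (.mem 9 (.mul (.mul (.l 13) (.l 40)) (.inv (.l 13)))) (.or (.mem 10 (.mul (.mul (.l 13) (.l 40)) (.inv (.l 13)))) (.mem 11 (.mul (.mul (.l 13) (.l 40)) (.inv (.l 13))))))) (.or (.mem 8 (.mul (.mul (.l 14) (.l 40)) (.inv (.l 14)))) (.or (.mem 9 (.mul (.mul (.l 14) (.l 40)) (.inv (.l 14)))) (.or (.mem 10 (.mul (.mul (.l 14) (.l 40)) (.inv (.l 14)))) (.mem 11 (.mul (.mul (.l 14) (.l 40)) (.inv (.l 14)))))))))))))))) (by decide +kernel)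

theorem nj_p1 : ∀ v ∈ genW nj.gam (nj.ws 1), v ∈ genW nj.gam (nj.ws 8) ∨ v ∈ genW nj.gam (nj.ws 9) ∨ v ∈ genW nj.gam (nj.ws 10) ∨ v ∈ genW nj.gam (nj.ws 11) → ¬ (nj.gam 16 * v ∈ genW nj.gam (nj.ws 8) ∨ nj.gam 16 * v ∈ genW nj.gam (nj.ws 9) ∨ nj.gam 16 * v ∈ genW nj.gam (nj.ws 10) ∨ nj.gam 16 * v ∈ genW nj.gam (nj.ws 11)) → (clsF cl_o2 (.mul (.l 3) (.l 16)) (.l 40)).holds (fun k => genW nj.gam (nj.ws k)) (upd nj.gam 40 v) :=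
  nj_ok.holds (φ := .all 1 40 [] (.imp (.or (.mem 8 (.l 40)) (.or (.mem 9 (.l 40)) (.or (.mem 10 (.l 40)) (.mem 11 (.l 40))))) (.imp (.not (.or (.mem 8 (.mul (.l 16) (.l 40))) (.or (.mem 9 (.mul (.l 16) (.l 40))) (.or (.mem 10 (.mul (.l 16) (.l 40))) (.mem 11 (.mul (.l 16) (.l 40))))))) (clsF cl_o2 (.mul (.l 3) (.l 16)) (.l 40))))) (by decide +kernel)

theorem nj_p2 : ∀ v ∈ genW nj.gam (nj.ws 1), v ∈ genW nj.gam (nj.ws 8) ∨ v ∈ genW nj.gam (nj.ws 9) ∨ v ∈ genW nj.gam (nj.ws 10) ∨ v ∈ genW nj.gam (nj.ws 11) → nj.gam 16 * v ∈ genW nj.gam (nj.ws 8) ∨ nj.gam 16 * v ∈ genW nj.gam (nj.ws 9) ∨ nj.gam 16 * v ∈ genW nj.gam (nj.ws 10) ∨ nj.gam 16 * v ∈ genW nj.gam (nj.ws 11) → nj.gam 3 * nj.gam 16 * v ∈ genW nj.gam (nj.ws 8) ∨ nj.gam 3 * nj.gam 16 * v ∈ genW nj.gam (nj.ws 9) ∨ nj.gam 3 * nj.gam 16 * v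 ∈ genW nj.gam (nj.ws 10) ∨ nj.gam 3 * nj.gam 16 * v ∈ genW nj.gam (nj.ws 11) → ∀ j ∈ genW nj.gam (nj.ws 1), j ∈ genW nj.gam (nj.ws 8) ∨ j ∈ genW nj.gam (nj.ws 9) ∨ j ∈ genW nj.gam (nj.ws 10) ∨ j ∈ genW nj.gam (nj.ws 11) → nj.gam 16 * j ∈ genW nj.gam (nj.ws 8) ∨ nj.gam 16 * j ∈ genW nj.gam (nj.ws 9) ∨ nj.gam 16 * j ∈ genW nj.gam (nj.ws 10) ∨ nj.gam 16 * j ∈ genW nj.gam (nj.ws 11) → nj.gam 3 * nj.gam 16 * j ∈ genW nj.gam (nj.ws 8) ∨ nj.gam 3 * nj.gam 16 * j ∈ genW nj.gam (nj.ws 9) ∨ nj.gam 3 * nj.gam 16 * j ∈ genW nj.gam (nj.ws 10) ∨ nj.gam 3 * nj.gam 16 * j ∈ genW nj.gam (nj.ws 11) → ¬ (v * j ∈ genW nj.gam (nj.ws 8) ∨ v * j ∈ genW nj.gam (nj.ws 9) ∨ v * j ∈ genW nj.gam (nj.ws 10) ∨ v * j ∈ genW nj.gam (nj.ws 11)) → nj.gam 16 * (nj.gam 3 * nj.gam 16) * v * j ∈ genW nj.gam (nj.ws 8) ∨ nj.gam 16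 * (nj.gam 3 * nj.gam 16) * v * j ∈ genW nj.gam (nj.ws 9) ∨ nj.gam 16 * (nj.gam 3 * nj.gam 16) * v * j ∈ genW nj.gam (nj.ws 10) ∨ nj.gam 16 * (nj.gam 3 * nj.gam 16) * v * j ∈ genW nj.gam (nj.ws 11) → ∃ k ∈ genW nj.gam (nj.ws 6), k * nj.gam 16 = nj.gam 16 * k ∧ k * (nj.gam 3 * nj.gam 16) = nj.gam 3 * nj.gam 16 * k ∧ k * (nj.gam 11 * nj.gam 15) = v * k ∧ k * (nj.gam 11 * (nj.gam 15)⁻¹) = j * k ∧ True :=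
  nj_ok.holds (φ := .all 1 40 [] (.imp (.or (.mem 8 (.l 40)) (.or (.mem 9 (.l 40)) (.or (.mem 10 (.l 40)) (.mem 11 (.l 40))))) (.imp (.or (.mem 8 (.mul (.l 16) (.l 40))) (.or (.mem 9 (.mul (.l 16) (.l 40))) (.or (.mem 10 (.mul (.l 16) (.l 40))) (.mem 11 (.mul (.l 16) (.l 40)))))) (.imp (.or (.mem 8 (.mul (.mul (.l 3) (.l 16)) (.l 40))) (.or (.mem 9 (.mul (.mul (.l 3) (.l 16)) (.l 40))) (.or (.mem 10 (.mul (.mul (.l 3) (.l 16)) (.l 40))) (.mem 11 (.mul (.mul (.l 3) (.l 16)) (.l 40)))))) (.all 1 41 [] (.imp (.or (.mem 8 (.l 41)) (.or (.mem 9 (.l 41)) (.or (.mem 10 (.l 41)) (.mem 11 (.l 41))))) (.imp (.or (.mem 8 (.mul (.l 16) (.l 41))) (.or (.mem 9 (.mul (.l 16) (.l 41))) (.or (.mem 10 (.mul (.l 16) (.l 41))) (.mem 11 (.mul (.l 16) (.l 41)))))) (.imp (.or (.mem 8 (.mul (.mul (.l 3) (.l 16)) (.l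 41))) (.or (.mem 9 (.mul (.mul (.l 3) (.l 16)) (.l 41))) (.or (.mem 10 (.mul (.mul (.l 3) (.l 16)) (.l 41))) (.mem 11 (.mul (.mul (.l 3) (.l 16)) (.l 41)))))) (.imp (.not (.or (.mem 8 (.mul (.l 40) (.l 41))) (.or (.mem 9 (.mul (.l 40) (.l 41))) (.or (.mem 10 (.mul (.l 40) (.l 41))) (.mem 11 (.mul (.l 40) (.l 41))))))) (.imp (.or (.mem 8 (.mul (.mul (.mul (.l 16) (.mul (.l 3) (.l 16))) (.l 40)) (.l 41))) (.or (.mem 9 (.mul (.mul (.mul (.l 16) (.mul (.l 3) (.l 16))) (.l 40)) (.l 41))) (.or (.mem 10 (.mul (.mul (.mul (.l 16) (.mul (.l 3) (.l 16))) (.l 40)) (.l 41))) (.mem 11 (.mul (.mul (.mul (.l 16) (.mul (.l 3) (.l 16))) (.l 40)) (.l 41)))))) (.ex 6 42 [(.l 16, .l 16), (.mul (.l 3) (.l 16), .mul (.l 3) (.l 16)), (.mul (.l 11) (.l 15), .l 40), (.mul (.l 11) (.inv (.l 15)), .l 41)] (.tt))))))))))))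 (by decide +kernel)

theorem nj_t4 : ∀ k ∈ genW nj.gam (nj.ws 5), k * nj.gam 16 = nj.gam 11 * nj.gam 15 * k → k⁻¹ * (nj.gam 7 * nj.gam 8) * k ∈ genW nj.gam (nj.ws 6) :=
  nj_ok.holds (φ := .all 5 40 [(.l 16, .mul (.l 11) (.l 15))] (.mem 6 (.mul (.mul (.inv (.l 40)) (.mul (.l 7) (.l 8))) (.l 40)))) (by decide +kernel)

theorem nj_inv : ∀ j ∈ genW nj.gam (nj.ws 1), nj.gam 12 * nj.gam 8 * j * (nj.gam 12 * nj.gam 8)⁻¹ = j⁻¹ :=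
  nj_ok.holds (φ := .all 1 40 [] (.eq (.mul (.mul (.mul (.l 12) (.l 8)) (.l 40)) (.inv (.mul (.l 12) (.l 8)))) (.inv (.l 40)))) (by decide +kernel)

/-- a formula -/
def nj_sy_f : Fm := .all 1 40 [] (.imp (.eq (.mul (.mul (.l 12) (.mul (.l 40) (.l 13))) (.inv (.l 12))) (.inv (.mul (.l 40) (.l 13)))) (.imp (.eq (.mul (.l 5) (.mul (.l 40) (.l 13))) (.mul (.mul (.l 40) (.l 13)) (.l 5))) (.or (.eq (.mul (.l 40) (.l 13)) (.l 13)) (.or (.eq (.mul (.l 40) (.l 13)) (.mul (.mul (.l 3) (.l 13)) (.inv (.l 3)))) (.eq (.mul (.l 40) (.l 13)) (.mul (.mul (.inv (.l 3)) (.l 13)) (.l 3)))))))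

theorem nj_sy_ev : nj.eval nj_sy_f = true := by decide +kernel

theorem nj_sy {G : Type*} [Group G] {γ : ℕ → G} {k : ℕ} {N : List W} (g : Gf nj γ k N)
    (e : tyB nj k N nj_sy_f = true := by decide +kernel) :
    ∀ j ∈ genW γ (nj.ws 1), γ 12 * (j * γ 13) * (γ 12)⁻¹ = (j * γ 13)⁻¹ → γ 5 * (j * γ 13) = j * γ 13 * γ 5 → j * γ 13 = γ 13 ∨ j * γ 13 = γ 3 * γ 13 * (γ 3)⁻¹ ∨ j * γ 13 = (γ 3)⁻¹ * γ 13 * γ 3 :=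
  g.transfer e nj_sy_ev

/-- a formula -/
def nj_sx_f : Fm := .all 1 40 [] (.imp (.eq (.mul (.mul (.l 5) (.mul (.l 40) (.l 4))) (.inv (.l 5))) (.inv (.mul (.l 40) (.l 4)))) (.imp (.eq (.mul (.l 12) (.mul (.l 40) (.l 4))) (.mul (.mul (.l 40) (.l 4)) (.l 12))) (.or (.eq (.mul (.l 40) (.l 4)) (.l 4)) (.or (.eq (.mul (.l 40) (.l 4)) (.mul (.mul (.l 3) (.l 4)) (.inv (.l 3)))) (.eq (.mul (.l 40) (.l 4)) (.mul (.mul (.inv (.l 3)) (.l 4)) (.l 3)))))))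

theorem nj_sx_ev : nj.eval nj_sx_f = true := by decide +kernel

theorem nj_sx {G : Type*} [Group G] {γ : ℕ → G} {k : ℕ} {N : List W} (g : Gf nj γ k N)
    (e : tyB nj k N nj_sx_f = true := by decide +kernel) :
    ∀ j ∈ genW γ (nj.ws 1), γ 5 * (j * γ 4) * (γ 5)⁻¹ = (j * γ 4)⁻¹ → γ 12 * (j * γ 4) = j * γ 4 * γ 12 → j * γ 4 = γ 4 ∨ j * γ 4 = γ 3 * γ 4 * (γ 3)⁻¹ ∨ j * γ 4 = (γ 3)⁻¹ * γ 4 * γ 3 :=
  g.transfer e nj_sx_ev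

/-- a formula -/
def nj_ab_f : Fm := .all 1 40 [] (.one (.pow (.l 40) 3))

theorem nj_ab_ev : nj.eval nj_ab_f = true := by decide +kernel

theorem nj_ab {G : Type*} [Group G] {γ : ℕ → G} {k : ℕ} {N : List W} (g : Gf nj γ k N)
    (e : tyB nj k N nj_ab_f = true := by decide +kernel) :
    ∀ j ∈ genW γ (nj.ws 1), j ^ 3 = 1 :=
  g.transfer e nj_ab_ev

end Cfsg.Lib.F43
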